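import Mathlib

set_option autoImplicit false

namespace Cfsg.Agent.Lib.RSY
open Matrix

variable {p : ℕ} [Fact p.Prime] {F : Type*} [Field F]

/-- `M` is monomial with shift `j` (the only possibly nonzero entry of row `i` is at column `i + j`)
and its entries there are `p`-th roots of unity. -/
def Sh (M : Matrix (Fin p) (Fin p) F) (j : Fin p) : Prop :=
  (∀ i k, k ≠ i + j → M i k = 0) ∧ ∀ i, (M i (i + j)) ^ p = 1

/-- some column has two nonzero entries. -/
def TwoCol (M : Matrix (Fin p) (Fin p) F) : Prop :=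
  ∃ a i i', i ≠ i' ∧ M i a ≠ 0 ∧ M i' a ≠ 0

theorem Sh_one : Sh (1 : Matrix (Fin p) (Fin p) F) 0 := by
  constructor
  · intro i k hk
    rw [add_zero] at hk
    exact Matrix.one_apply_ne (Ne.symm hk)
  · intro i
    rw [add_zero, Matrix.one_apply_eq, one_pow]

theorem Sh_mul {A B : Matrix (Fin p) (Fin p) F} {j j' : Fin p} (hA : Sh A j) (hB : Sh B j') :
    Sh (A * B) (j + j') := by
  have key : ∀ i k, (A * B) i k = A i (i + j) * B (i + j) k := by
    intro i k
    rw [Matrix.mul_apply]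
    apply Finset.sum_eq_single (i + j)
    · intro l _ hl
      rw [hA.1 i l hl, zero_mul]
    · intro h
      exact absurd (Finset.mem_univ _) h
  constructor
  · intro i k hk
    rw [key, hB.1 (i + j) k (by rwa [add_assoc]), mul_zero]
  · intro i
    rw [key, ← add_assoc, mul_pow, hA.2, hB.2, one_mul]

theorem Sh_pow {A : Matrix (Fin p) (Fin p) F} {j : Fin p} (hA : Sh A j) (n : ℕ) :
    Sh (A ^ n) (n • j) := by
  induction n with
  | zero => simpa using Sh_one
  | succ n ih =>
    rw [pow_succ, succ_nsmul]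
    exact Sh_mul ih hA

variable (p F) in
/-- the monomial `p`-subgroup `μ_p ≀ C_p` of `GL_p(F)`. -/
def Q0 [Finite F] : Subgroup (GL (Fin p) F) where
  carrier := {g | ∃ j, Sh (g : Matrix (Fin p) (Fin p) F) j}
  one_mem' := ⟨0, by simpa using Sh_one⟩
  mul_mem' := by
    rintro a b ⟨j, hj⟩ ⟨j', hj'⟩
    exact ⟨j + j', by simpa using Sh_mul hj hj'⟩
  inv_mem' := by
    rintro a ⟨j, hj⟩
    have h1 : a⁻¹ = a ^ (orderOf a - 1) := by
      apply inv_eq_of_mul_eq_one_right
      rw [← pow_succ', Nat.sub_add_cancel (orderOf_pos a), pow_orderOf_eq_one]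
    rw [h1]
    exact ⟨(orderOf a - 1) • j, by simpa using Sh_pow hj _⟩

theorem mem_Q0 [Finite F] (g : GL (Fin p) F) :
    g ∈ Q0 p F ↔ ∃ j, Sh (g : Matrix (Fin p) (Fin p) F) j := Iff.rfl

end Cfsg.Agent.Lib.RSY
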