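import Mathlib
import Cfsg.Agent.Lib.Helper89.RSY.Defs

set_option autoImplicit false

namespace Cfsg.Agent.Lib.RSY
open Matrix

variable {p : ℕ} [Fact p.Prime] {F : Type*} [Field F] [Fintype F]

/-- C1 -/
theorem case1 (x : GL (Fin p) F) (hx : Sh (x : Matrix (Fin p) (Fin p) F) 0) (a b : Fin p)
    (hab : a ≠ b) (h : (x : Matrix (Fin p) (Fin p) F) a a = (x : Matrix (Fin p) (Fin p) F) b b) :
    ∃ g : GL (Fin p) F, g⁻¹ * x * g ∈ Q0 p F ∧ TwoCol (g : Matrix (Fin p) (Fin p) F) := by
  have hdiag : ∀ i k, i ≠ k → (x : Matrix (Fin p) (Fin p) F) i k = 0 := by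
    intro i k hik
    apply hx.1
    rw [add_zero]
    exact Ne.symm hik
  have hdet : (Matrix.transvection a b (1 : F)).det ≠ 0 := by
    rw [Matrix.det_transvection_of_ne a b hab]
    exact one_ne_zero
  let g : GL (Fin p) F := Matrix.GeneralLinearGroup.mkOfDetNeZero _ hdet
  have hg : (g : Matrix (Fin p) (Fin p) F) = Matrix.transvection a b (1 : F) := rfl
  have hcomm : x * g = g * x := by
    apply Units.ext
    rw [Units.val_mul, Units.val_mul, hg, Matrix.transvection, mul_add, add_mul, mul_one, one_mul]
    congr 1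
    ext i k
    rw [Matrix.mul_apply, Matrix.mul_apply]
    rw [Finset.sum_eq_single a, Finset.sum_eq_single b]
    · by_cases hi : i = a
      · by_cases hk : k = b
        · subst hi hk
          simp [h]
        · subst hi
          have : (x : Matrix (Fin p) (Fin p) F) b k = 0 := hdiag b k (Ne.symm hk)
          simp [Matrix.single, this, Ne.symm hk]
      · have : (x : Matrix (Fin p) (Fin p) F) i a = 0 := hdiag i a hi
        simp [Matrix.single, this, Ne.symm hi]
    · intro l _ hl
      simp [Matrix.single, Ne.symm hl]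
    · intro h'
      exact absurd (Finset.mem_univ _) h'
    · intro l _ hl
      simp [Matrix.single, Ne.symm hl]
    · intro h'
      exact absurd (Finset.mem_univ _) h'
  refine ⟨g, ?_, b, a, b, hab, ?_, ?_⟩
  · rw [mul_assoc, hcomm, inv_mul_cancel_left]
    exact ⟨0, hx⟩
  · rw [hg]
    simp [Matrix.transvection, Matrix.single, hab]
  · rw [hg]
    simp [Matrix.transvection, Matrix.single, hab, Ne.symm hab]

end Cfsg.Agent.Lib.RSY
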