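import Mathlib
import Cfsg.Agent.Lib.Helper89.RSY.Defs

/-! Ladder RSY (S4358), rung C2: a diagonal element with pairwise distinct entries is conjugated into
`Q0` by a Vandermonde matrix. -/

set_option autoImplicit false

namespace Cfsg.Agent.Lib.RSY
open Matrix

variable {p : ℕ} [Fact p.Prime] {F : Type*} [Field F] [Fintype F]

/-- C2 -/
theorem case2 (hp : p ≠ 2) (x : GL (Fin p) F) (hx : Sh (x : Matrix (Fin p) (Fin p) F) 0)
    (h : ∀ a b : Fin p, a ≠ b →
      (x : Matrix (Fin p) (Fin p) F) a a ≠ (x : Matrix (Fin p) (Fin p) F) b b) :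
    ∃ g : GL (Fin p) F, g⁻¹ * x * g ∈ Q0 p F ∧ TwoCol (g : Matrix (Fin p) (Fin p) F) := by
  have hp1 : 1 < p := (Fact.out : p.Prime).one_lt
  obtain ⟨d, hd⟩ : ∃ d : Fin p → F, ∀ i, d i = (x : Matrix (Fin p) (Fin p) F) i i := ⟨_, fun _ => rfl⟩
  have hdp : ∀ i, d i ^ p = 1 := by
    intro i
    have h1 := hx.2 i
    rw [add_zero] at h1
    rw [hd, h1]
  have hmod : ∀ i (n : ℕ), d i ^ (n % p) = d i ^ n := by
    intro i n
    conv_rhs => rw [← Nat.div_add_mod n p, pow_add, pow_mul, hdp, one_pow, one_mul]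
  have hinj : Function.Injective d := by
    intro a b hab
    by_contra hne
    rw [hd, hd] at hab
    exact h a b hne hab
  have hdet : (Matrix.vandermonde d).det ≠ 0 := Matrix.det_vandermonde_ne_zero_iff.mpr hinj
  obtain ⟨g, hg⟩ : ∃ g : GL (Fin p) F, (g : Matrix (Fin p) (Fin p) F) = Matrix.vandermonde d :=
    ⟨Matrix.GeneralLinearGroup.mkOfDetNeZero _ hdet, rfl⟩
  obtain ⟨s, hs⟩ : ∃ s : Matrix (Fin p) (Fin p) F, ∀ l k, s l k = if l = k + 1 then 1 else 0 :=
    ⟨fun l k => if l = k + 1 then 1 else 0, fun _ _ => rfl⟩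
  have hxg : (x : Matrix (Fin p) (Fin p) F) * (g : Matrix (Fin p) (Fin p) F) =
      (g : Matrix (Fin p) (Fin p) F) * s := by
    rw [hg]
    ext i k
    rw [Matrix.mul_apply, Matrix.mul_apply, Finset.sum_eq_single i, Finset.sum_eq_single (k + 1)]
    · rw [hs, if_pos rfl, mul_one, Matrix.vandermonde_apply, Matrix.vandermonde_apply, ← hd,
        ← pow_succ', Fin.val_add, ← hmod i ((k : ℕ) + 1)]
      congr 1
      rw [Fin.val_one', Nat.add_mod_mod]
    · intro l _ hl
      rw [hs, if_neg hl, mul_zero]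
    · intro hk
      exact absurd (Finset.mem_univ _) hk
    · intro l _ hl
      rw [hx.1 i l (by rwa [add_zero]), zero_mul]
    · intro hk
      exact absurd (Finset.mem_univ _) hk
  have hsh : Sh s (-1) := by
    constructor
    · intro l k hk
      rw [hs, if_neg]
      rintro rfl
      exact hk (by simp)
    · intro l
      rw [hs, if_pos (by simp), one_pow]
  have hcoe : ((g⁻¹ * x * g : GL (Fin p) F) : Matrix (Fin p) (Fin p) F) = s := by
    rw [Units.val_mul, Units.val_mul, mul_assoc, hxg, ← mul_assoc, ← Units.val_mul, inv_mul_cancel,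
      Units.val_one, one_mul]
  refine ⟨g, (mem_Q0 _).2 ⟨-1, by rw [hcoe]; exact hsh⟩, ?_⟩
  refine ⟨⟨0, by omega⟩, ⟨0, by omega⟩, ⟨1, hp1⟩, ?_, ?_, ?_⟩
  · intro h01
    have := congrArg Fin.val h01
    simp at this
  · rw [hg, Matrix.vandermonde_apply]
    simp
  · rw [hg, Matrix.vandermonde_apply]
    simp

end Cfsg.Agent.Lib.RSY
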