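import Mathlib
import Cfsg.Agent.Lib.Helper89.RSY.Defs

set_option autoImplicit false

namespace Cfsg.Agent.Lib.RSY
open Matrix

variable {p : ℕ} [Fact p.Prime] {F : Type*} [Field F]

/-- every element of `Fin p` is a multiple of a nonzero `j`. -/
theorem exists_nsmul_fin {j : Fin p} (hj : j ≠ 0) (k : Fin p) : ∃ n : ℕ, n • j = k := by
  have h : k ∈ AddSubmonoid.multiples j :=
    mem_multiples_of_prime_card (p := p) (by simp) hj
  exact AddSubmonoid.mem_multiples_iff _ _ |>.1 h

/-- a property stable under the shift by a nonzero `j` and true somewhere is true everywhere. -/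
theorem shift_induction {j : Fin p} (hj : j ≠ 0) (P : Fin p → Prop) (i₀ : Fin p) (h0 : P i₀)
    (hs : ∀ i, P i → P (i + j)) : ∀ k, P k := by
  have h1 : ∀ n : ℕ, P (i₀ + n • j) := by
    intro n
    induction n with
    | zero => simpa using h0
    | succ n ih =>
      rw [succ_nsmul, ← add_assoc]
      exact hs _ ih
  intro k
  obtain ⟨n, hn⟩ := exists_nsmul_fin hj (k - i₀)
  have := h1 n
  rwa [hn, add_sub_cancel] at this

theorem Sh_entry_ne_zero {M : Matrix (Fin p) (Fin p) F} {j : Fin p} (hM : Sh M j) (i : Fin p) :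
    M i (i + j) ≠ 0 := by
  intro h
  have := hM.2 i
  rw [h, zero_pow (Fact.out : p.Prime).ne_zero] at this
  exact zero_ne_one this

omit [Fact p.Prime] in
theorem Sh_mulVec {M : Matrix (Fin p) (Fin p) F} {j : Fin p} (hM : Sh M j) (v : Fin p → F)
    (i : Fin p) : (M *ᵥ v) i = M i (i + j) * v (i + j) := by
  rw [Matrix.mulVec, dotProduct]
  apply Finset.sum_eq_single (i + j)
  · intro l _ hl
    rw [hM.1 i l hl, zero_mul]
  · intro h
    exact absurd (Finset.mem_univ _) h

variable [Fintype F]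

/-- FV -/
theorem fixed_vec {M : Matrix (Fin p) (Fin p) F} {j : Fin p} (hM : Sh M j) (hj : j ≠ 0)
    (v : Fin p → F) (hv : M *ᵥ v = v) (i₀ : Fin p) (h0 : v i₀ = 0) : v = 0 := by
  funext k
  refine shift_induction hj (fun k => v k = 0) i₀ h0 ?_ k
  intro i hi
  have h1 := congrFun hv i
  rw [Sh_mulVec hM, hi] at h1
  exact (mul_eq_zero.1 h1).resolve_left (Sh_entry_ne_zero hM i)

end Cfsg.Agent.Lib.RSY
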