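import Mathlib
import Cfsg.Agent.Lib.Helper89.RSY.Defs
import Cfsg.Agent.Lib.Helper89.RSY.FV

set_option autoImplicit false

namespace Cfsg.Agent.Lib.RSY
open Matrix

variable {p : ℕ} [Fact p.Prime] {F : Type*} [Field F] [Fintype F]

/-- C3A -/
theorem case3a (hp : p ≠ 2) (x : GL (Fin p) F) (j : Fin p)
    (hx : Sh (x : Matrix (Fin p) (Fin p) F) j) (hj : j ≠ 0) (l : F) (hl : l ^ p = 1) (hl1 : l ≠ 1)
    (hxl : (x : Matrix (Fin p) (Fin p) F) ^ p = l • (1 : Matrix (Fin p) (Fin p) F)) :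
    ∃ g : GL (Fin p) F, g⁻¹ * x * g ∈ Q0 p F ∧ TwoCol (g : Matrix (Fin p) (Fin p) F) := by
  have hodd : Odd p := (Fact.out : p.Prime).odd_of_ne_two hp
  have hl0 : 1 + l ≠ 0 := by
    intro h
    have h1 : l = -1 := by linear_combination h
    rw [h1, hodd.neg_one_pow] at hl
    exact hl1 (h1.trans hl)
  obtain ⟨A, hA⟩ : ∃ A : Matrix (Fin p) (Fin p) F, A = (x : Matrix (Fin p) (Fin p) F) := ⟨_, rfl⟩
  have hgs : (1 + A) * ((1 + l)⁻¹ • ∑ i ∈ Finset.range p, (-A) ^ i) = 1 := by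
    have h1 := mul_neg_geom_sum (-A) p
    rw [hodd.neg_pow, sub_neg_eq_add, sub_neg_eq_add, hA, hxl] at h1
    rw [Matrix.mul_smul, hA, h1]
    have h2 : (1 : Matrix (Fin p) (Fin p) F) + l • 1 = (1 + l) • 1 := by
      rw [add_smul, one_smul]
    rw [h2, smul_smul, inv_mul_cancel₀ hl0, one_smul]
  let g : GL (Fin p) F :=
    ⟨1 + A, (1 + l)⁻¹ • ∑ i ∈ Finset.range p, (-A) ^ i, hgs, mul_eq_one_comm.1 hgs⟩
  have hg : (g : Matrix (Fin p) (Fin p) F) = 1 + A := rfl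
  have hcomm : x * g = g * x := by
    apply Units.ext
    rw [Units.val_mul, Units.val_mul, hg, ← hA, mul_add, add_mul, mul_one, one_mul]
  refine ⟨g, ?_, ?_⟩
  · have : g⁻¹ * x * g = x := by
      rw [mul_assoc, hcomm, ← mul_assoc, inv_mul_cancel, one_mul]
    rw [this]
    exact ⟨j, hx⟩
  · have hne : (0 : Fin p) ≠ 0 + j := by
      rw [zero_add]; exact Ne.symm hj
    refine ⟨0 + j, 0, 0 + j, hne, ?_, ?_⟩
    · rw [hg, Matrix.add_apply, Matrix.one_apply_ne hne, zero_add, hA]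
      exact Sh_entry_ne_zero hx 0
    · have h1 : A (0 + j) (0 + j) = 0 := by
        rw [hA]
        apply hx.1
        intro h
        exact hj (left_eq_add.1 h)
      rw [hg, Matrix.add_apply, Matrix.one_apply_eq, h1, add_zero]
      exact one_ne_zero

end Cfsg.Agent.Lib.RSY
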