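import Cfsg.Agent.Lib.Helper89.RSY.RED

/-! `exists_zeta` lives in `RED.lean`; this module re-exports it under the agreed path. -/
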