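import Mathlib
import Cfsg.Agent.Lib.Helper89.RSY.Defs
import Cfsg.Agent.Lib.Helper89.RSY.ZETA
import Cfsg.Agent.Lib.Helper89.RSY.FV

set_option autoImplicit false

namespace Cfsg.Agent.Lib.RSY
open Matrix

theorem c3b_mul_sum {R : Type*} [Ring R] (X : R) (n : ℕ) (h : X ^ n = 1) :
    X * ∑ i ∈ Finset.range n, X ^ i = ∑ i ∈ Finset.range n, X ^ i := by
  have h1 : ∑ i ∈ Finset.range n, X ^ (i + 1) + X ^ 0 = ∑ i ∈ Finset.range n, X ^ i + X ^ n := by
    rw [← Finset.sum_range_succ', Finset.sum_range_succ]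
  rw [Finset.mul_sum]
  have h2 : ∀ i ∈ Finset.range n, X * X ^ i = X ^ (i + 1) := fun i _ => (pow_succ' X i).symm
  rw [Finset.sum_congr rfl h2]
  rw [h, pow_zero] at h1
  exact add_right_cancel h1

theorem c3b_sum_mul {R : Type*} [Ring R] (X : R) (n : ℕ) (h : X ^ n = 1) :
    (∑ i ∈ Finset.range n, X ^ i) * X = ∑ i ∈ Finset.range n, X ^ i := by
  have h1 : ∑ i ∈ Finset.range n, X ^ (i + 1) + X ^ 0 = ∑ i ∈ Finset.range n, X ^ i + X ^ n := by
    rw [← Finset.sum_range_succ', Finset.sum_range_succ]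
  rw [Finset.sum_mul]
  have h2 : ∀ i ∈ Finset.range n, X ^ i * X = X ^ (i + 1) := fun i _ => (pow_succ X i).symm
  rw [Finset.sum_congr rfl h2]
  rw [h, pow_zero] at h1
  exact add_right_cancel h1

theorem c3b_sq {R : Type*} [Ring R] (X : R) (n : ℕ) (h : X ^ n = 1) :
    (∑ i ∈ Finset.range n, X ^ i) * (∑ i ∈ Finset.range n, X ^ i) =
      n • ∑ i ∈ Finset.range n, X ^ i := by
  have hpow : ∀ i : ℕ, X ^ i * ∑ i ∈ Finset.range n, X ^ i = ∑ i ∈ Finset.range n, X ^ i := by
    intro i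
    induction i with
    | zero => rw [pow_zero, one_mul]
    | succ i ih => rw [pow_succ, mul_assoc, c3b_mul_sum X n h, ih]
  conv_lhs => rw [Finset.sum_mul]
  rw [Finset.sum_congr rfl (fun i _ => hpow i), Finset.sum_const, Finset.card_range]

variable {p : ℕ} [Fact p.Prime] {F : Type*} [Field F] [Fintype F]

theorem c3b_nsmul_ne (j : Fin p) (hj : j ≠ 0) (i : ℕ) (hi0 : 0 < i) (hip : i < p) : i • j ≠ 0 := by
  intro h
  have h1 : addOrderOf j ∣ i := addOrderOf_dvd_iff_nsmul_eq_zero.2 h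
  have h2 : addOrderOf j ∣ p := by
    have := addOrderOf_dvd_card (x := j)
    rwa [Fintype.card_fin] at this
  rcases (Nat.dvd_prime Fact.out).1 h2 with h3 | h3
  · exact hj (AddMonoid.addOrderOf_eq_one_iff.1 h3)
  · rw [h3] at h1
    exact absurd (Nat.le_of_dvd hi0 h1) (by omega)

theorem c3b_cast_ne (h1 : p ∣ Fintype.card F - 1) : (p : F) ≠ 0 := by
  intro hp0
  obtain ⟨k, hk⟩ := h1
  have hq : Fintype.card F = p * k + 1 := by
    have := Fintype.card_pos (α := F)
    omega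
  have h := Nat.cast_card_eq_zero F
  rw [hq] at h
  push_cast at h
  rw [hp0] at h
  simp at h

/-- C3B -/
theorem case3b (hp : p ≠ 2) (h1 : p ∣ Fintype.card F - 1) (x : GL (Fin p) F) (j : Fin p)
    (hx : Sh (x : Matrix (Fin p) (Fin p) F) j) (hj : j ≠ 0)
    (hxl : (x : Matrix (Fin p) (Fin p) F) ^ p = 1) :
    ∃ g : GL (Fin p) F, g⁻¹ * x * g ∈ Q0 p F ∧ TwoCol (g : Matrix (Fin p) (Fin p) F) := by
  have hp3 : 3 ≤ p := by
    have := (Fact.out : p.Prime).two_le
    omega
  have hpF : (p : F) ≠ 0 := c3b_cast_ne h1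
  obtain ⟨ζ, hζ, hζ1⟩ := exists_zeta (p := p) (F := F) h1
  have hζ0 : ζ ≠ 0 := by
    rintro rfl
    rw [zero_pow (by omega)] at hζ
    exact zero_ne_one hζ
  set X : Matrix (Fin p) (Fin p) F := (x : Matrix (Fin p) (Fin p) F) with hX
  set S : Matrix (Fin p) (Fin p) F := ∑ i ∈ Finset.range p, X ^ i with hS
  have hXS : X * S = S := c3b_mul_sum X p hxl
  have hSX : S * X = S := c3b_sum_mul X p hxl
  have hSS : S * S = (p : F) • S := by
    rw [hS, c3b_sq X p hxl, Nat.cast_smul_eq_nsmul]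
  obtain ⟨c, hc⟩ : ∃ c : F, c * p = ζ - 1 := ⟨(ζ - 1) / p, by field_simp⟩
  obtain ⟨d, hd⟩ : ∃ d : F, d * ζ = c := ⟨c / ζ, by field_simp⟩
  have hc0 : c ≠ 0 := by
    rintro rfl
    rw [zero_mul] at hc
    exact hζ1 (sub_eq_zero.1 hc.symm)
  have hmul : (1 + c • S) * (1 - d • S) = 1 := by
    have h0 : c - d - c * d * p = 0 := by linear_combination (-d) * hc - hd
    have : (1 + c • S) * (1 - d • S) = 1 + (c - d - c * d * p) • S := by
      simp only [add_mul, mul_sub, one_mul, mul_one, smul_mul_assoc, mul_smul_comm, hSS, smul_smul]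
      module
    rw [this, h0, zero_smul, add_zero]
  let G : GL (Fin p) F := ⟨1 + c • S, 1 - d • S, hmul, mul_eq_one_comm.1 hmul⟩
  have hG : (G : Matrix (Fin p) (Fin p) F) = 1 + c • S := rfl
  have hcomm : x * G = G * x := by
    apply Units.ext
    rw [Units.val_mul, Units.val_mul, hG, ← hX, mul_add, mul_one, mul_smul_comm, hXS, add_mul,
      one_mul, smul_mul_assoc, hSX]
  have hS00 : S 0 0 = 1 := by
    rw [hS, Matrix.sum_apply, Finset.sum_eq_single 0]
    · rw [pow_zero, Matrix.one_apply_eq]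
    · intro i hi hi0
      apply (Sh_pow hx i).1 0 0
      rw [zero_add]
      exact (c3b_nsmul_ne j hj i (Nat.pos_of_ne_zero hi0) (Finset.mem_range.1 hi)).symm
    · intro h
      exact absurd (Finset.mem_range.2 (by omega)) h
  have hS0 : ∀ r, S r 0 ≠ 0 := by
    intro r h0
    have hv : X *ᵥ (fun r => S r 0) = fun r => S r 0 := by
      funext i
      have := congrFun (congrFun hXS i) 0
      rw [Matrix.mul_apply] at this
      simpa only [Matrix.mulVec, dotProduct] using this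
    have h := fixed_vec hx hj _ hv r h0
    have h00 := congrFun h 0
    simp only [Pi.zero_apply] at h00
    rw [hS00] at h00
    exact one_ne_zero h00
  have hent : ∀ r : Fin p, r ≠ 0 → (G : Matrix (Fin p) (Fin p) F) r 0 ≠ 0 := by
    intro r hr
    rw [hG, Matrix.add_apply, Matrix.smul_apply, Matrix.one_apply_ne hr, zero_add, smul_eq_mul]
    exact mul_ne_zero hc0 (hS0 r)
  refine ⟨G, ?_, 0, ⟨1, by omega⟩, ⟨2, by omega⟩, ?_, hent _ ?_, hent _ ?_⟩
  · rw [mul_assoc, hcomm, inv_mul_cancel_left]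
    exact ⟨j, hx⟩
  · intro h
    have := congrArg Fin.val h
    simp at this
  · intro h
    have := congrArg Fin.val h
    simp at this
  · intro h
    have := congrArg Fin.val h
    simp at this

end Cfsg.Agent.Lib.RSY
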