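import Mathlib
import Cfsg.Agent.Lib.Helper89.RSY.Defs

set_option autoImplicit false

namespace Cfsg.Agent.Lib.RSY
open Matrix

variable {p : ℕ} [Fact p.Prime] {F : Type*} [Field F] [Fintype F]

/-- CARDMU -/
theorem card_mu (h1 : p ∣ Fintype.card F - 1) : Nat.card {a : F // a ^ p = 1} = p := by
  classical
  have hp : p.Prime := Fact.out
  have hcard : p ∣ Fintype.card Fˣ := by rw [Fintype.card_units]; exact h1
  obtain ⟨ζ, hζ⟩ := exists_prime_orderOf_dvd_card p hcard
  have hprim : IsPrimitiveRoot (ζ : F) p := by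
    have := IsPrimitiveRoot.orderOf ζ
    rw [hζ] at this
    exact IsPrimitiveRoot.coe_units_iff.mpr this
  have hc := hprim.card_nthRootsFinset
  have e : {a : F // a ^ p = 1} ≃ {a : F // a ∈ Polynomial.nthRootsFinset p (1 : F)} :=
    Equiv.subtypeEquivRight (fun a => (Polynomial.mem_nthRootsFinset hp.pos (1 : F)).symm)
  rw [Nat.card_congr e, Nat.card_eq_fintype_card, Fintype.card_coe, hc]

end Cfsg.Agent.Lib.RSY
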