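import Mathlib
import Cfsg.Agent.Lib.Helper89.RSY.Defs

set_option autoImplicit false

namespace Cfsg.Agent.Lib.RSY
open Matrix

variable {p : ℕ} [Fact p.Prime] {F : Type*} [Field F] [Fintype F]

/-- MK : the monomial matrix with entries `d` and shift `j`. -/
theorem exists_mk (d : Fin p → F) (hd : ∀ i, d i ^ p = 1) (j : Fin p) :
    ∃ g : GL (Fin p) F, ∀ i k, (g : Matrix (Fin p) (Fin p) F) i k = if k = i + j then d i else 0 := by
  have hd0 : ∀ i, d i ≠ 0 := by
    intro i h
    have := hd i
    rw [h, zero_pow (Fact.out : p.Prime).ne_zero] at this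
    exact zero_ne_one this
  refine ⟨⟨Matrix.of fun i k => if k = i + j then d i else 0,
    Matrix.of fun k i => if k = i + j then (d i)⁻¹ else 0, ?_, ?_⟩, fun i k => rfl⟩
  · ext i i'
    rw [Matrix.mul_apply, Finset.sum_eq_single (i + j)]
    · simp only [Matrix.of_apply, if_true]
      by_cases h : i = i'
      · subst h; simp [hd0 i]
      · rw [if_neg (by simpa using h), mul_zero, Matrix.one_apply_ne h]
    · intro k _ hk; simp [hk]
    · intro h; exact absurd (Finset.mem_univ _) h
  · ext k k'
    rw [Matrix.mul_apply, Finset.sum_eq_single (k - j)]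
    · simp only [Matrix.of_apply, sub_add_cancel, if_true]
      by_cases h : k = k'
      · subst h; simp [hd0 (k - j)]
      · rw [if_neg (Ne.symm h), mul_zero, Matrix.one_apply_ne h]
    · intro i _ hi
      have : k ≠ i + j := by
        intro h; apply hi; rw [h, add_sub_cancel_right]
      simp [this]
    · intro h; exact absurd (Finset.mem_univ _) h

end Cfsg.Agent.Lib.RSY
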