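import Mathlib
import Cfsg.Agent.Lib.Helper89.RSY.Defs
import Cfsg.Agent.Lib.Helper89.RSY.MK
import Cfsg.Agent.Lib.Helper89.RSY.CARDMU

set_option autoImplicit false

namespace Cfsg.Agent.Lib.RSY
open Matrix

variable {p : ℕ} [Fact p.Prime] {F : Type*} [Field F] [Fintype F]

/-- the monomial matrix with entries `d` and shift `j`, as an element of `Q0`. -/
noncomputable def cardPhi (a : (Fin p → {a : F // a ^ p = 1}) × Fin p) : Q0 p F :=
  ⟨Classical.choose (exists_mk (fun i => (a.1 i).1) (fun i => (a.1 i).2) a.2), a.2, by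
    have hs := Classical.choose_spec (exists_mk (fun i => (a.1 i).1) (fun i => (a.1 i).2) a.2)
    constructor
    · intro i k hk
      rw [hs, if_neg hk]
    · intro i
      rw [hs, if_pos rfl]
      exact (a.1 i).2⟩

theorem cardPhi_apply (a : (Fin p → {a : F // a ^ p = 1}) × Fin p) (i k : Fin p) :
    ((cardPhi a : GL (Fin p) F) : Matrix (Fin p) (Fin p) F) i k =
      if k = i + a.2 then (a.1 i).1 else 0 :=
  Classical.choose_spec (exists_mk (fun i => (a.1 i).1) (fun i => (a.1 i).2) a.2) i k

theorem cardPhi_bijective : Function.Bijective (cardPhi (p := p) (F := F)) := by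
  have hp0 : p ≠ 0 := (Fact.out : p.Prime).ne_zero
  constructor
  · rintro ⟨d, j⟩ ⟨d', j'⟩ h
    have hent : ∀ i k, (if k = i + j then (d i).1 else 0) = (if k = i + j' then (d' i).1 else 0) := by
      intro i k
      have h1 := cardPhi_apply (d, j) i k
      have h2 := cardPhi_apply (d', j') i k
      rw [h] at h1
      exact h1.symm.trans h2
    have hne : ∀ i, (d i).1 ≠ 0 := by
      intro i h0
      have := (d i).2
      rw [h0, zero_pow hp0] at this
      exact zero_ne_one this
    have hj : j = j' := by
      by_contra hjj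
      have := hent 0 (0 + j)
      rw [if_pos rfl, if_neg (by simpa using hjj)] at this
      exact hne 0 this
    subst hj
    have hd : d = d' := by
      funext i
      apply Subtype.ext
      have := hent i (i + j)
      rwa [if_pos rfl, if_pos rfl] at this
    rw [hd]
  · rintro ⟨g, j, hg⟩
    refine ⟨(fun i => ⟨(g : Matrix (Fin p) (Fin p) F) i (i + j), hg.2 i⟩, j), ?_⟩
    apply Subtype.ext
    apply Units.ext
    ext i k
    rw [cardPhi_apply]
    by_cases hk : k = i + j
    · rw [if_pos hk, hk]
    · rw [if_neg hk, hg.1 i k hk]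

/-- CARD -/
theorem card_Q0 (h1 : p ∣ Fintype.card F - 1) : Nat.card (Q0 p F) = p ^ (p + 1) := by
  rw [← Nat.card_congr (Equiv.ofBijective _ (cardPhi_bijective (p := p) (F := F))), Nat.card_prod,
    Nat.card_fun, card_mu h1, Nat.card_eq_fintype_card, Fintype.card_fin, pow_succ]

end Cfsg.Agent.Lib.RSY
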