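import Mathlib
import Cfsg.Agent.Lib.Helper89.RSY.Defs

set_option autoImplicit false

namespace Cfsg.Agent.Lib.RSY
open Matrix

/-- RED (abstract, Mathlib only) -/
theorem red {G : Type*} [Group G] [Finite G] (p : ℕ) [Fact p.Prime] (Q : Sylow p G)
    (h : ∀ x ∈ Q, ∃ g : G, g⁻¹ * x * g ∈ Q ∧ ∃ t ∈ Q, g * t * g⁻¹ ∉ Q) :
    ∀ x : G, (∃ k : ℕ, orderOf x = p ^ k) → ∃ P : Sylow p G, P ≠ Q ∧ x ∈ P := by
  rintro x ⟨k, hk⟩
  by_cases hx : x ∈ Q
  · obtain ⟨g, hg, t, ht, hgt⟩ := h x hx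
    have hmem : ∀ y : G, g⁻¹ * y * g ∈ Q → y ∈ g • Q := by
      intro y hy
      have h1 : y ∈ ((g • Q : Sylow p G) : Subgroup G) := by
        rw [Sylow.coe_subgroup_smul, Subgroup.mem_pointwise_smul_iff_inv_smul_mem]
        have hy' : g⁻¹ * y * g ∈ (Q : Subgroup G) := hy
        simpa [MulAut.smul_def, mul_assoc] using hy'
      exact h1
    refine ⟨g • Q, ?_, hmem x hg⟩
    intro heq
    apply hgt
    rw [← heq]
    apply hmem
    simpa [mul_assoc] using ht
  · have hz : IsPGroup p (Subgroup.zpowers x) := by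
      apply IsPGroup.of_card (n := k)
      rw [Nat.card_zpowers, hk]
    obtain ⟨P, hP⟩ := hz.exists_le_sylow
    refine ⟨P, ?_, hP (Subgroup.mem_zpowers x)⟩
    intro heq
    apply hx
    rw [← heq]
    exact hP (Subgroup.mem_zpowers x)

variable {p : ℕ} [Fact p.Prime] {F : Type*} [Field F] [Fintype F]

/-- ZETA -/
theorem exists_zeta (h1 : p ∣ Fintype.card F - 1) : ∃ ζ : F, ζ ^ p = 1 ∧ ζ ≠ 1 := by
  classical
  have h2 : p ∣ Fintype.card Fˣ := by rwa [Fintype.card_units]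
  obtain ⟨u, hu⟩ := exists_prime_orderOf_dvd_card p h2
  refine ⟨u, ?_, ?_⟩
  · have := pow_orderOf_eq_one u
    rw [hu] at this
    have h3 := congrArg Units.val this
    simpa using h3
  · intro h
    have : u = 1 := Units.ext h
    rw [this, orderOf_one] at hu
    exact (Fact.out : p.Prime).one_lt.ne hu

end Cfsg.Agent.Lib.RSY
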