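import Mathlib
import Cfsg.Agent.Lib.Helper89.RSY.Defs
import Cfsg.Agent.Lib.Helper89.RSY.RED
import Cfsg.Agent.Lib.Helper89.RSY.MK
import Cfsg.Agent.Lib.Helper89.RSY.FV

set_option autoImplicit false

namespace Cfsg.Agent.Lib.RSY
open Matrix

variable {p : ℕ} [Fact p.Prime] {F : Type*} [Field F] [Fintype F]

/-- NM -/
theorem nm (hp : p ≠ 2) (h1 : p ∣ Fintype.card F - 1) (g : GL (Fin p) F)
    (h : ∀ t ∈ Q0 p F, g * t * g⁻¹ ∈ Q0 p F) : ¬ TwoCol (g : Matrix (Fin p) (Fin p) F) := by
  rintro ⟨a, i, i', hii, hia, hi'a⟩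
  have hpp : p.Prime := Fact.out
  obtain ⟨ζ, hζp, hζ1⟩ := exists_zeta (p := p) (F := F) h1
  have hd : ∀ r, (Function.update (1 : Fin p → F) a ζ) r ^ p = 1 := by
    intro r
    by_cases hr : r = a
    · subst hr
      simpa using hζp
    · simp [Function.update_of_ne hr]
  obtain ⟨t, ht⟩ := exists_mk (Function.update (1 : Fin p → F) a ζ) hd 0
  have htQ : t ∈ Q0 p F := by
    refine ⟨0, ?_, ?_⟩
    · intro r k hk
      rw [ht, if_neg hk]
    · intro r
      rw [ht, if_pos rfl]
      exact hd r
  obtain ⟨j', hm⟩ := h t htQ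
  obtain ⟨G, hG⟩ : ∃ G : Matrix (Fin p) (Fin p) F, G = (g : Matrix (Fin p) (Fin p) F) := ⟨_, rfl⟩
  obtain ⟨Gi, hGi⟩ : ∃ Gi : Matrix (Fin p) (Fin p) F,
      Gi = ((g⁻¹ : GL (Fin p) F) : Matrix (Fin p) (Fin p) F) := ⟨_, rfl⟩
  obtain ⟨M, hM⟩ : ∃ M : Matrix (Fin p) (Fin p) F,
      M = ((g * t * g⁻¹ : GL (Fin p) F) : Matrix (Fin p) (Fin p) F) := ⟨_, rfl⟩
  rw [← hM] at hm
  rw [← hG] at hia hi'a
  have hGGi : G * Gi = 1 := by
    rw [hG, hGi, ← Units.val_mul, mul_inv_cancel, Units.val_one]
  have hGiG : Gi * G = 1 := by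
    rw [hG, hGi, ← Units.val_mul, inv_mul_cancel, Units.val_one]
  have hMG : M * G = G * (t : Matrix (Fin p) (Fin p) F) := by
    rw [hM, hG, ← Units.val_mul, ← Units.val_mul]
    congr 1
    group
  have hGT : ∀ r k, (G * (t : Matrix (Fin p) (Fin p) F)) r k
      = G r k * Function.update (1 : Fin p → F) a ζ k := by
    intro r k
    rw [Matrix.mul_apply, Finset.sum_eq_single k]
    · rw [ht, if_pos (add_zero k).symm]
    · intro b _ hb
      rw [ht, if_neg (by rw [add_zero]; exact hb.symm), mul_zero]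
    · intro hh
      exact absurd (Finset.mem_univ _) hh
  have hMGe : ∀ r k, (M * G) r k = M r (r + j') * G (r + j') k := by
    intro r k
    rw [Matrix.mul_apply, Finset.sum_eq_single (r + j')]
    · intro b _ hb
      rw [hm.1 r b hb, zero_mul]
    · intro hh
      exact absurd (Finset.mem_univ _) hh
  have key : ∀ r k, M r (r + j') * G (r + j') k
      = G r k * Function.update (1 : Fin p → F) a ζ k := by
    intro r k
    rw [← hMGe, hMG, hGT]
  by_cases hj : j' = 0
  · subst hj
    simp only [add_zero] at key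
    have hMM : ∀ r, G r a ≠ 0 → M r r = ζ := by
      intro r hr
      have := key r a
      rw [Function.update_self, mul_comm] at this
      exact mul_left_cancel₀ hr this
    have hz : ∀ r, G r a ≠ 0 → ∀ k, k ≠ a → G r k = 0 := by
      intro r hr k hk
      have := key r k
      rw [Function.update_of_ne hk, hMM r hr, Pi.one_apply, mul_one] at this
      by_contra hne
      exact hζ1 (mul_right_cancel₀ hne (by rw [this, one_mul]))
    have e : ∀ r, G r a ≠ 0 → ∀ s, (G * Gi) r s = G r a * Gi a s := by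
      intro r hr s
      rw [Matrix.mul_apply, Finset.sum_eq_single a]
      · intro b _ hb
        rw [hz r hr b hb, zero_mul]
      · intro hh
        exact absurd (Finset.mem_univ _) hh
    have e1 := e i hia i'
    have e2 := e i' hi'a i'
    rw [hGGi, Matrix.one_apply_ne hii] at e1
    rw [hGGi, Matrix.one_apply_eq] at e2
    have h0 : Gi a i' = 0 := by
      rcases mul_eq_zero.mp e1.symm with h | h
      · exact absurd h hia
      · exact h
    rw [h0, mul_zero] at e2
    exact one_ne_zero e2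
  · have hc : 1 < (Finset.univ.erase a).card := by
      rw [Finset.card_erase_of_mem (Finset.mem_univ _), Finset.card_univ, Fintype.card_fin]
      have := hpp.two_le
      omega
    obtain ⟨k, hk, k', hk', hkk'⟩ := Finset.one_lt_card.mp hc
    have hka : k ≠ a := Finset.ne_of_mem_erase hk
    have hk'a : k' ≠ a := Finset.ne_of_mem_erase hk'
    have hfix : ∀ c, c ≠ a → M *ᵥ (fun r => G r c) = fun r => G r c := by
      intro c hc
      ext r
      have := key r c
      rw [Function.update_of_ne hc, Pi.one_apply, mul_one] at this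
      rw [← this, ← hMGe, Matrix.mul_apply]
      rfl
    have hcol : ∀ c, Gi *ᵥ (fun r => G r c) = fun s => (1 : Matrix (Fin p) (Fin p) F) s c := by
      intro c
      ext s
      rw [← hGiG, Matrix.mul_apply]
      rfl
    have hu : G 0 k' • (fun r => G r k) - G 0 k • (fun r => G r k') = 0 := by
      apply fixed_vec hm hj _ _ 0
      · simp only [Pi.sub_apply, Pi.smul_apply, smul_eq_mul]
        ring
      · rw [Matrix.mulVec_sub, Matrix.mulVec_smul, Matrix.mulVec_smul, hfix k hka, hfix k' hk'a]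
    have h0 : Gi *ᵥ (G 0 k' • (fun r => G r k) - G 0 k • (fun r => G r k')) = 0 := by
      rw [hu, Matrix.mulVec_zero]
    rw [Matrix.mulVec_sub, Matrix.mulVec_smul, Matrix.mulVec_smul, hcol, hcol] at h0
    have hv0 : G 0 k = 0 := by
      have := congrFun h0 k'
      simpa [Matrix.one_apply_ne hkk'.symm] using this
    have hv : (fun r => G r k) = 0 := fixed_vec hm hj _ (hfix k hka) 0 hv0
    have h2 := hcol k
    rw [hv, Matrix.mulVec_zero] at h2
    have h3 := congrFun h2 k
    simp at h3

end Cfsg.Agent.Lib.RSY
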