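import Mathlib
import Cfsg.Agent.Lib.Helper89.RSY.Defs
import Cfsg.Agent.Lib.Helper89.RSY.FV

set_option autoImplicit false

namespace Cfsg.Agent.Lib.RSY
open Matrix

variable {p : ℕ} [Fact p.Prime] {F : Type*} [Field F]

omit [Fact p.Prime] in
theorem Sh_mul_apply {A : Matrix (Fin p) (Fin p) F} {j : Fin p} (hA : Sh A j)
    (B : Matrix (Fin p) (Fin p) F) (i k : Fin p) : (A * B) i k = A i (i + j) * B (i + j) k := by
  rw [Matrix.mul_apply]
  apply Finset.sum_eq_single (i + j)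
  · intro l _ hl
    rw [hA.1 i l hl, zero_mul]
  · intro h
    exact absurd (Finset.mem_univ _) h

theorem prime_nsmul_fin (j : Fin p) : p • j = 0 := by
  have h := card_nsmul_eq_zero' (G := Fin p) (x := j)
  simpa using h

variable [Fintype F]

/-- POW -/
theorem pow_scalar (x : GL (Fin p) F) (j : Fin p) (hx : Sh (x : Matrix (Fin p) (Fin p) F) j)
    (hj : j ≠ 0) : ∃ l : F, l ^ p = 1 ∧
      (x : Matrix (Fin p) (Fin p) F) ^ p = l • (1 : Matrix (Fin p) (Fin p) F) := by
  obtain ⟨A, hA⟩ : ∃ A : Matrix (Fin p) (Fin p) F, A = (x : Matrix (Fin p) (Fin p) F) := ⟨_, rfl⟩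
  rw [← hA] at hx ⊢
  have h0 : Sh (A ^ p) 0 := by
    have := Sh_pow hx p
    rwa [prime_nsmul_fin] at this
  have hstep : ∀ i, (A ^ p) i i = (A ^ p) 0 0 → (A ^ p) (i + j) (i + j) = (A ^ p) 0 0 := by
    intro i hi
    have hc : A ^ p * A = A * A ^ p := (pow_succ A p).symm.trans (pow_succ' A p)
    have h1 := congrFun (congrFun hc i) (i + j)
    rw [Sh_mul_apply h0, Sh_mul_apply hx, add_zero, mul_comm] at h1
    have h2 := mul_left_cancel₀ (Sh_entry_ne_zero hx i) h1
    rw [← h2, hi]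
  have hconst : ∀ k, (A ^ p) k k = (A ^ p) 0 0 :=
    shift_induction hj (fun k => (A ^ p) k k = (A ^ p) 0 0) 0 rfl hstep
  refine ⟨(A ^ p) 0 0, ?_, ?_⟩
  · have := h0.2 0
    rwa [add_zero] at this
  · ext i k
    by_cases hik : i = k
    · subst hik
      rw [hconst i, Matrix.smul_apply, Matrix.one_apply_eq, smul_eq_mul, mul_one]
    · rw [h0.1 i k (by rw [add_zero]; exact Ne.symm hik), Matrix.smul_apply,
        Matrix.one_apply_ne hik, smul_zero]

end Cfsg.Agent.Lib.RSY
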