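import Mathlib
import Cfsg.Agent.Lib.Helper89.RSY.Defs

set_option autoImplicit false

namespace Cfsg.Agent.Lib.RSY
open Matrix

variable {p : ℕ} [Fact p.Prime] {F : Type*} [Field F] [Fintype F]

theorem val_aux (hp : p ≠ 2) (q : ℕ) (hq : 1 < q) (h1 : p ∣ q - 1) (h2 : ¬ p ^ 2 ∣ q - 1)
    (i : ℕ) (hi : i < p) :
    padicValNat p (q ^ p - q ^ i) = 1 + (if i = 0 then 1 else 0) := by
  have hpp : p.Prime := Fact.out
  have hodd : Odd p := hpp.odd_of_ne_two hp
  have hpq : ¬ p ∣ q := by
    intro h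
    have h3 : p ∣ q - (q - 1) := Nat.dvd_sub h h1
    have h4 : q - (q - 1) = 1 := by omega
    rw [h4] at h3
    exact hpp.one_lt.ne' (Nat.dvd_one.mp h3)
  have hq1 : q - 1 ≠ 0 := by omega
  have hv1 : padicValNat p (q - 1) = 1 := by
    have ha : 1 ≤ padicValNat p (q - 1) :=
      (padicValNat_dvd_iff_le hq1).mp (by simpa using h1)
    have hb : ¬ 2 ≤ padicValNat p (q - 1) := fun h =>
      h2 ((padicValNat_dvd_iff_le hq1).mpr h)
    omega
  have hfac : q ^ p - q ^ i = q ^ i * (q ^ (p - i) - 1) := by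
    rw [Nat.mul_sub, mul_one, ← pow_add]
    congr 2
    omega
  have hk : p - i ≠ 0 := by omega
  have hne : q ^ (p - i) - 1 ≠ 0 := by
    have : 1 < q ^ (p - i) := Nat.one_lt_pow hk hq
    omega
  have hqi : q ^ i ≠ 0 := pow_ne_zero _ (by omega)
  rw [hfac, padicValNat.mul hqi hne, padicValNat.pow,
    padicValNat.eq_zero_of_not_dvd hpq, mul_zero, zero_add]
  have h5 := padicValNat.pow_sub_pow (p := p) hodd (x := q) (y := 1) hq h1 hpq hk
  rw [one_pow] at h5
  rw [h5, hv1]
  congr 1
  split_ifs with h0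
  · subst h0
    simp
  · apply padicValNat.eq_zero_of_not_dvd
    intro h
    have := Nat.le_of_dvd (by omega) h
    omega

/-- VAL -/
theorem card_GL_val (hp : p ≠ 2) (h1 : p ∣ Fintype.card F - 1) (h2 : ¬ p ^ 2 ∣ Fintype.card F - 1) :
    (Nat.card (GL (Fin p) F)).factorization p = p + 1 := by
  have hpp : p.Prime := Fact.out
  have hq : 1 < Fintype.card F := Fintype.one_lt_card
  rw [Matrix.card_GL_field, Nat.factorization_prod]
  · rw [Finsupp.finsetSum_apply]
    have h3 : ∀ i : Fin p, ((Fintype.card F) ^ p - (Fintype.card F) ^ (i : ℕ)).factorization p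
        = 1 + (if (i : ℕ) = 0 then 1 else 0) := by
      intro i
      rw [Nat.factorization_def _ hpp]
      exact val_aux hp _ hq h1 h2 i i.2
    rw [Finset.sum_congr rfl (fun i _ => h3 i), Finset.sum_add_distrib]
    simp only [Finset.sum_const, Finset.card_univ, Fintype.card_fin, smul_eq_mul, mul_one]
    congr 1
    rw [Finset.sum_eq_single (⟨0, hpp.pos⟩ : Fin p)]
    · simp
    · intro b _ hb
      rw [if_neg]
      intro h
      exact hb (Fin.ext h)
    · intro h
      exact absurd (Finset.mem_univ _) h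
  · intro i _
    have : (Fintype.card F) ^ (i : ℕ) < (Fintype.card F) ^ p :=
      Nat.pow_lt_pow_right hq i.2
    omega

end Cfsg.Agent.Lib.RSY
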