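import Cfsg.Agent.Lib.Helper89.RSY.RED
import Cfsg.Agent.Lib.Helper89.RSY.C1
import Cfsg.Agent.Lib.Helper89.RSY.C2
import Cfsg.Agent.Lib.Helper89.RSY.C3A
import Cfsg.Agent.Lib.Helper89.RSY.C3B
import Cfsg.Agent.Lib.Helper89.RSY.CARD
import Cfsg.Agent.Lib.Helper89.RSY.VAL
import Cfsg.Agent.Lib.Helper89.RSY.POW
import Cfsg.Agent.Lib.Helper89.RSY.NM

set_option autoImplicit false

namespace Cfsg.Agent.Lib.RSY
open Matrix

variable {p : ℕ} [Fact p.Prime] {F : Type*} [Field F] [Fintype F]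

theorem exists_bad (hp : p ≠ 2) (h1 : p ∣ Fintype.card F - 1) (x : GL (Fin p) F)
    (hx : x ∈ Q0 p F) :
    ∃ g : GL (Fin p) F, g⁻¹ * x * g ∈ Q0 p F ∧ TwoCol (g : Matrix (Fin p) (Fin p) F) := by
  obtain ⟨j, hj⟩ := hx
  by_cases hj0 : j = 0
  · subst hj0
    by_cases h : ∃ a b : Fin p, a ≠ b ∧
        (x : Matrix (Fin p) (Fin p) F) a a = (x : Matrix (Fin p) (Fin p) F) b b
    · obtain ⟨a, b, hab, h⟩ := h
      exact case1 x hj a b hab h
    · push Not at h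
      exact case2 hp x hj h
  · obtain ⟨l, hl, hxl⟩ := pow_scalar x j hj hj0
    by_cases hl1 : l = 1
    · subst hl1
      rw [one_smul] at hxl
      exact case3b hp h1 x j hj hj0 hxl
    · exact case3a hp x j hj hj0 l hl hl1 hxl

theorem main (hp : p ≠ 2) (h1 : p ∣ Fintype.card F - 1) (h2 : ¬ p ^ 2 ∣ Fintype.card F - 1) :
    ∃ Q : Sylow p (GL (Fin p) F), ∀ x : GL (Fin p) F,
      (∃ k : ℕ, orderOf x = p ^ k) → ∃ P : Sylow p (GL (Fin p) F), P ≠ Q ∧ x ∈ P := by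
  have hc : Nat.card (Q0 p F) = p ^ (Nat.card (GL (Fin p) F)).factorization p := by
    rw [card_Q0 h1, card_GL_val hp h1 h2]
  refine ⟨Sylow.ofCard (Q0 p F) hc, ?_⟩
  apply red
  intro x hx
  have hx' : x ∈ Q0 p F := hx
  obtain ⟨g, hg, hT⟩ := exists_bad hp h1 x hx'
  refine ⟨g, hg, ?_⟩
  by_contra hcon
  push Not at hcon
  exact nm hp h1 g (fun t ht => hcon t ht) hT

end Cfsg.Agent.Lib.RSY
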